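import Groth.Agent.FunFld.K659.BNEnd
import Mathlib.Algebra.Field.ULift

/-!
# S18178: universe reduction

`K659.BNEnd.main` is stated for `k K : Type u`; the frozen statement has independent universes.
-/

set_option autoImplicit false

open FunFld Polynomial

namespace K799.Univ178

universe u v

theorem isAlgClosed_of_ringEquiv (k : Type u) [Field k] (k' : Type v) [Field k'] (e : k ≃+* k') [IsAlgClosed k] :
    IsAlgClosed k' := by
  apply IsAlgClosed.of_exists_root
  intro p hmp hp
  have hpe : degree (p.map e.symm.toRingHom) ≠ 0 := by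
    rw [degree_map]
    exact ne_of_gt (degree_pos_of_irreducible hp)
  rcases IsAlgClosed.exists_root (k := k) (p.map e.symm.toRingHom) hpe with ⟨x, hx⟩
  use e x
  rw [IsRoot] at hx
  apply e.symm.injective
  rw [map_zero, ← hx]
  clear hx hpe hp hmp
  induction p using Polynomial.induction_on <;> simp_all

/-- The frozen statement of S18178 from `NoBundle` over algebraically closed fields of characteristic zero. -/
theorem main (hB : ∀ (k' : Type (max u v)) [Field k'] [IsAlgClosed k'] [CharZero k'], K659.BNEnd.NoBundle k')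
    (k : Type u) [Field k] [IsAlgClosed k] [CharZero k]
    (K : Type v) [Field K] [Algebra k K] (hK : FunFld.IsFunctionField k K)
    (g r d : ℕ) (hg : FunFld.genus k K = g)
    (hrho : ((r : ℤ) + 1) * ((g : ℤ) + r - d) ≤ g) :
    ∃ D : FunFld.Divisor k K, D.deg = d ∧ r + 1 ≤ FunFld.ell D := by
  let σ : k ≃+* ULift.{v} k := ULift.ringEquiv.symm
  let e : K ≃+* ULift.{u} K := ULift.ringEquiv.symm
  let alg : Algebra (ULift.{v} k) (ULift.{u} K) :=
    ((e : K →+* ULift.{u} K).comp ((algebraMap k K).comp (σ.symm : ULift.{v} k →+* k))).toAlgebra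
  have h : ∀ c, e (algebraMap k K c) = @algebraMap (ULift.{v} k) (ULift.{u} K) _ _ alg (σ c) := fun c => by
    change _ = e (algebraMap k K (σ.symm (σ c)))
    rw [σ.symm_apply_apply]
  have : IsAlgClosed (ULift.{v} k) := isAlgClosed_of_ringEquiv k _ σ
  have : CharZero (ULift.{v} k) := charZero_of_injective_ringHom (f := (σ : k →+* ULift.{v} k)) σ.injective
  have hK' : @IsFunctionField (ULift.{v} k) (ULift.{u} K) _ _ alg :=
    @K659.BNTrans.isFunctionField k K (ULift.{v} k) (ULift.{u} K) _ _ _ _ _ alg σ e h hK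
  have hg' : @genus (ULift.{v} k) (ULift.{u} K) _ _ alg = g := by
    rw [@K659.BNTrans.genus_eq k K (ULift.{v} k) (ULift.{u} K) _ _ _ _ _ alg σ e h _ _ hK, hg]
  obtain ⟨D', h1, h2⟩ := @K659.BNEnd.main (ULift.{v} k) _ _ _ (hB _) (ULift.{u} K) _ alg hK' g r d hg' hrho
  obtain ⟨D, rfl⟩ := (@K659.BNTrans.dvEquiv k K (ULift.{v} k) (ULift.{u} K) _ _ _ _ _ alg σ e h).surjective D'
  refine ⟨D, ?_, ?_⟩
  · rw [← h1, @K659.BNTrans.deg_eq k K (ULift.{v} k) (ULift.{u} K) _ _ _ _ _ alg σ e h _ _ hK]
  · rwa [@K659.BNTrans.ell_eq k K (ULift.{v} k) (ULift.{u} K) _ _ _ _ _ alg σ e h] at h2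

end K799.Univ178
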